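import Groth.Agent.ShStab.K672.LA

/-!
# Semi-invariants are defined over the prime field

`K672.FpDesc.descent`: a semi-invariant polynomial with coefficients in an algebraically closed field of characteristic
`p`, not vanishing at `u`, gives a semi-invariant with coefficients in `ZMod p`, not vanishing at `u`, and the
semi-invariance holds over every ring of characteristic `p`.
-/

set_option autoImplicit false
set_option linter.unusedSectionVars false

universe u v

namespace K672.FpDesc

open K865.TenAct K991.Ten
open scoped BigOperators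

section coef

variable {τ : Type*} {F : Type*} [Field F] {k : Type*} [CommRing k] [Algebra F k]

/-- Decomposition of a polynomial with respect to a basis of the coefficients. -/
theorem exists_decomp {ι : Type*} (bs : Module.Basis ι F k) (f : MvPolynomial τ k) :
    ∃ (I : Finset ι) (g : ι → MvPolynomial τ F),
      f = ∑ i ∈ I, MvPolynomial.C (bs i) * MvPolynomial.map (algebraMap F k) (g i) := by
  classical
  refine ⟨f.support.biUnion fun m => (bs.repr (MvPolynomial.coeff m f)).support,
    fun i => ∑ m ∈ f.support, MvPolynomial.monomial m (bs.repr (MvPolynomial.coeff m f) i), ?_⟩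
  set I := f.support.biUnion fun m => (bs.repr (MvPolynomial.coeff m f)).support
  have h1 : ∀ i ∈ I, MvPolynomial.C (bs i) * MvPolynomial.map (algebraMap F k)
      (∑ m ∈ f.support, MvPolynomial.monomial m (bs.repr (MvPolynomial.coeff m f) i)) =
      ∑ m ∈ f.support, MvPolynomial.monomial m (bs.repr (MvPolynomial.coeff m f) i • bs i) := by
    intro i _
    rw [map_sum, Finset.mul_sum]
    refine Finset.sum_congr rfl fun m _ => ?_
    rw [MvPolynomial.map_monomial, MvPolynomial.C_mul_monomial, Algebra.smul_def, mul_comm]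
  rw [Finset.sum_congr rfl h1, Finset.sum_comm]
  conv_lhs => rw [← MvPolynomial.support_sum_monomial_coeff f]
  refine Finset.sum_congr rfl fun m hm => ?_
  rw [← map_sum]
  congr 1
  conv_lhs => rw [← bs.linearCombination_repr (MvPolynomial.coeff m f), Finsupp.linearCombination_apply]
  rw [Finsupp.sum]
  exact Finset.sum_subset (Finset.subset_biUnion_of_mem
    (fun m => (bs.repr (MvPolynomial.coeff m f)).support) hm) fun i _ hi => by
      rw [Finsupp.notMem_support_iff.1 hi, zero_smul]

/-- Independence of the decomposition. -/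
theorem eq_zero_of_decomp {ι : Type*} (bs : Module.Basis ι F k) (I : Finset ι) (g : ι → MvPolynomial τ F)
    (h : ∑ i ∈ I, MvPolynomial.C (bs i) * MvPolynomial.map (algebraMap F k) (g i) = 0) :
    ∀ i ∈ I, g i = 0 := by
  classical
  intro i hi
  ext m
  rw [MvPolynomial.coeff_zero]
  have h1 := congrArg (MvPolynomial.coeff m) h
  rw [MvPolynomial.coeff_sum, MvPolynomial.coeff_zero] at h1
  have h2 : ∑ i ∈ I, MvPolynomial.coeff m (g i) • bs i = 0 := by
    rw [← h1]
    refine Finset.sum_congr rfl fun j _ => ?_
    rw [MvPolynomial.coeff_C_mul, MvPolynomial.coeff_map, Algebra.smul_def, mul_comm]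
  exact linearIndependent_iff'.1 bs.linearIndependent I _ h2 i hi

end coef

section gen

variable {R A B : Type} [Fintype R] [DecidableEq R] [Fintype A] [DecidableEq A] [DecidableEq B]

/-- The ring of the coordinates of a matrix and a tensor. -/
abbrev Pr (R A : Type) (F : Type*) [CommRing F] : Type _ := MvPolynomial ((R × R) ⊕ (A → R)) F

variable (b : R → B) (w : B → ℕ) (D : ℕ) (F : Type*) [CommRing F]

/-- The generic block matrix. -/
noncomputable def gm : Matrix R R (Pr R A F) :=
  fun i j => if b i = b j then MvPolynomial.X (Sum.inl (i, j)) else 0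

/-- The generic tensor. -/
noncomputable def gt : (A → R) → Pr R A F := fun J => MvPolynomial.X (Sum.inr J)

/-- The obstruction to semi-invariance. -/
noncomputable def ob (f : MvPolynomial (A → R) F) : Pr R A F :=
  MvPolynomial.aeval (act (gm (A := A) b F) (gt F)) f -
    chi b w (gm (A := A) b F) ^ D * MvPolynomial.aeval (gt (R := R) (A := A) F) f

variable {F} {F' : Type*} [CommRing F'] (φ : F →+* F')

theorem gm_map : (gm (A := A) b F).map (MvPolynomial.map φ) = gm b F' := by
  ext i j
  rw [Matrix.map_apply, gm, gm]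
  by_cases h : b i = b j
  · rw [if_pos h, if_pos h, MvPolynomial.map_X]
  · rw [if_neg h, if_neg h, map_zero]

theorem ob_map (f : MvPolynomial (A → R) F) :
    MvPolynomial.map φ (ob b w D F f) = ob b w D F' (MvPolynomial.map φ f) := by
  have h1 : ∀ (v : (A → R) → Pr R A F) (v' : (A → R) → Pr R A F'),
      (∀ J, MvPolynomial.map φ (v J) = v' J) → ∀ f : MvPolynomial (A → R) F,
        MvPolynomial.map φ (MvPolynomial.aeval v f) = MvPolynomial.aeval v' (MvPolynomial.map φ f) := by
    intro v v' hv f
    induction f using MvPolynomial.induction_on with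
    | C a =>
      rw [MvPolynomial.map_C, MvPolynomial.aeval_C, MvPolynomial.aeval_C]
      exact MvPolynomial.map_C _ _
    | add f g hf hg => simp only [map_add, hf, hg]
    | mul_X f J hf => simp only [map_mul, hf, MvPolynomial.aeval_X, MvPolynomial.map_X, hv]
  rw [ob, ob, map_sub, map_mul, map_pow, h1 _ (act (gm (A := A) b F') (gt F')) ?_ f,
    h1 _ (gt (R := R) (A := A) F') ?_ f, ← chi_map, gm_map]
  · intro J
    exact MvPolynomial.map_X _ _
  · intro J
    rw [map_act_apply (MvPolynomial.map φ : Pr R A F →+* Pr R A F'), gm_map]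
    congr 1
    funext J'
    exact MvPolynomial.map_X _ _

variable {b w D}

theorem ob_add (f g : MvPolynomial (A → R) F) : ob b w D F (f + g) = ob b w D F f + ob b w D F g := by
  rw [ob, ob, ob, map_add, map_add]
  ring

theorem ob_C_mul (c : F) (f : MvPolynomial (A → R) F) :
    ob b w D F (MvPolynomial.C c * f) = MvPolynomial.C c * ob b w D F f := by
  rw [ob, ob, map_mul, map_mul, MvPolynomial.aeval_C, MvPolynomial.aeval_C]
  change MvPolynomial.C c * _ - _ * (MvPolynomial.C c * _) = _
  ring

theorem ob_zero : ob b w D F (0 : MvPolynomial (A → R) F) = 0 := by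
  rw [ob, map_zero, map_zero, mul_zero, sub_zero]

theorem ob_sum {ι : Type*} (I : Finset ι) (f : ι → MvPolynomial (A → R) F) :
    ob b w D F (∑ i ∈ I, f i) = ∑ i ∈ I, ob b w D F (f i) := by
  classical
  induction I using Finset.induction_on with
  | empty => rw [Finset.sum_empty, Finset.sum_empty, ob_zero]
  | insert i I hi ih => rw [Finset.sum_insert hi, Finset.sum_insert hi, ob_add, ih]

/-- Specialisation of the obstruction. -/
theorem map_ob {S : Type*} [CommRing S] (θ : Pr R A F →+* S) (ψ : F →+* S)
    (hψ : ∀ c, θ (MvPolynomial.C c) = ψ c) {h : Matrix R R S} (hh : (gm (A := A) b F).map θ = h)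
    {x : (A → R) → S} (hx : ∀ J, θ (gt (R := R) (A := A) F J) = x J) (f : MvPolynomial (A → R) F) :
    θ (ob b w D F f) = MvPolynomial.eval₂ ψ (act h x) f - chi b w h ^ D * MvPolynomial.eval₂ ψ x f := by
  have h1 : ∀ (v : (A → R) → Pr R A F) (v' : (A → R) → S), (∀ J, θ (v J) = v' J) → ∀ f : MvPolynomial (A → R) F,
      θ (MvPolynomial.aeval v f) = MvPolynomial.eval₂ ψ v' f := by
    intro v v' hv f
    induction f using MvPolynomial.induction_on with
    | C a =>
      rw [MvPolynomial.aeval_C, MvPolynomial.eval₂_C]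
      exact hψ a
    | add f g hf hg => rw [map_add, map_add, hf, hg, MvPolynomial.eval₂_add]
    | mul_X f J hf => rw [map_mul, map_mul, hf, MvPolynomial.aeval_X, hv, MvPolynomial.eval₂_mul, MvPolynomial.eval₂_X]
  have h2 : ∀ J, θ (act (gm (A := A) b F) (gt F) J) = act h x J := by
    intro J
    rw [map_act_apply θ, hh]
    congr 1
    funext J'
    exact hx J'
  rw [ob, map_sub, map_mul, map_pow, h1 _ _ h2, h1 _ _ hx, ← chi_map, hh]

theorem eval_ob {S : Type*} [CommRing S] (ψ : F →+* S) {h : Matrix R R S} (hh : IsBlk b h) (x : (A → R) → S)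
    (f : MvPolynomial (A → R) F) :
    MvPolynomial.eval₂ ψ (Sum.elim (fun q : R × R => h q.1 q.2) x) (ob b w D F f) =
      MvPolynomial.eval₂ ψ (act h x) f - chi b w h ^ D * MvPolynomial.eval₂ ψ x f := by
  let θ : Pr R A F →+* S := MvPolynomial.eval₂Hom ψ (Sum.elim (fun q : R × R => h q.1 q.2) x)
  have hgm : (gm (A := A) b F).map θ = h := by
    ext i j
    rw [Matrix.map_apply, gm]
    by_cases hij : b i = b j
    · rw [if_pos hij]
      exact MvPolynomial.eval₂Hom_X' _ _ _
    · rw [if_neg hij, map_zero, hh i j hij]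
  have hgt : ∀ J, θ (gt (R := R) (A := A) F J) = x J := fun J => MvPolynomial.eval₂Hom_X' _ _ _
  exact map_ob θ ψ (fun c => MvPolynomial.eval₂Hom_C _ _ _) hgm hgt f

end gen

section main

variable {R A B : Type} [Fintype R] [DecidableEq R] [Fintype A] [DecidableEq A] [DecidableEq B]

theorem det_gm_ne_zero {k : Type u} [Field k] (b : R → B) : (gm (A := A) b k).det ≠ 0 := by
  intro h
  let θ : Pr R A k →+* k := MvPolynomial.eval (Sum.elim (fun q : R × R => (1 : Matrix R R k) q.1 q.2) 0)
  have h1 : θ (gm (A := A) b k).det = ((gm (A := A) b k).map θ).det := RingHom.map_det _ _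
  rw [h, map_zero] at h1
  have h2 : (gm (A := A) b k).map θ = 1 := by
    ext i j
    rw [Matrix.map_apply, gm]
    by_cases hij : b i = b j
    · rw [if_pos hij]
      exact MvPolynomial.eval_X _
    · rw [if_neg hij, map_zero, Matrix.one_apply_ne (fun h => hij (by rw [h]))]
  rw [h2, Matrix.det_one] at h1
  exact zero_ne_one h1

/-- Vanishing of the obstruction over an infinite field. -/
theorem ob_eq_zero {k : Type u} [Field k] [Infinite k] (b : R → B) (w : B → ℕ) (D : ℕ)
    (f : MvPolynomial (A → R) k)
    (hf : ∀ h : Matrix R R k, IsBlk b h → IsUnit h.det → ∀ x,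
      MvPolynomial.eval (act h x) f = chi b w h ^ D * MvPolynomial.eval x f) : ob b w D k f = 0 := by
  have h1 : (gm (A := A) b k).det * ob b w D k f = 0 := by
    apply MvPolynomial.funext
    intro y
    rw [map_mul, map_zero]
    have hdet : MvPolynomial.eval y (gm (A := A) b k).det = ((gm (A := A) b k).map (MvPolynomial.eval y)).det :=
      RingHom.map_det _ _
    have hb : IsBlk b ((gm (A := A) b k).map (MvPolynomial.eval y)) := by
      intro i j hij
      rw [Matrix.map_apply, gm, if_neg hij, map_zero]
    by_cases hu : IsUnit ((gm (A := A) b k).map (MvPolynomial.eval y)).det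
    · have h2 := map_ob (b := b) (w := w) (D := D) (MvPolynomial.eval y : Pr R A k →+* k) (RingHom.id k)
        (fun c => MvPolynomial.eval_C c) (h := (gm (A := A) b k).map (MvPolynomial.eval y)) rfl
        (x := fun J => y (Sum.inr J)) (fun J => MvPolynomial.eval_X _) f
      have h6 := hf _ hb hu (fun J => y (Sum.inr J))
      rw [h2]
      change _ * (MvPolynomial.eval _ f - _ * MvPolynomial.eval _ f) = 0
      rw [h6, sub_self, mul_zero]
    · rw [isUnit_iff_ne_zero, not_not] at hu
      rw [hdet, hu, zero_mul]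
  exact (mul_eq_zero.1 h1).resolve_left (det_gm_ne_zero b)

/-- **Semi-invariants over the prime field.** -/
theorem descent {p : ℕ} [Fact p.Prime] {k : Type u} [Field k] [IsAlgClosed k] [CharP k p] (b : R → B) (w : B → ℕ)
    (D : ℕ) (u : (A → R) → k) (f : MvPolynomial (A → R) k)
    (hf : ∀ h : Matrix R R k, IsBlk b h → IsUnit h.det → ∀ x,
      MvPolynomial.eval (act h x) f = chi b w h ^ D * MvPolynomial.eval x f)
    (hu : MvPolynomial.eval u f ≠ 0) :
    ∃ f₀ : MvPolynomial (A → R) (ZMod p),
      (∀ (S : Type u) [CommRing S] [CharP S p] (h : Matrix R R S), IsBlk b h →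
        ∀ x, ev p (act h x) f₀ = chi b w h ^ D * ev p x f₀) ∧ ev p u f₀ ≠ 0 := by
  classical
  let _ : Algebra (ZMod p) k := ZMod.algebra k p
  let bs := Module.Free.chooseBasis (ZMod p) k
  obtain ⟨I, g, hg⟩ := exists_decomp bs f
  have hinf : Infinite k := IsAlgClosed.instInfinite
  have h0 := ob_eq_zero b w D f hf
  have h1 : ∑ i ∈ I, MvPolynomial.C (bs i) * MvPolynomial.map (algebraMap (ZMod p) k) (ob b w D (ZMod p) (g i)) = 0 := by
    rw [← h0]
    conv_rhs => rw [hg]
    rw [ob_sum]
    refine Finset.sum_congr rfl fun i _ => ?_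
    rw [ob_C_mul, ob_map]
  have h2 := eq_zero_of_decomp bs I (fun i => ob b w D (ZMod p) (g i)) h1
  -- evaluation
  have hev : ∀ i, MvPolynomial.eval u (MvPolynomial.map (algebraMap (ZMod p) k) (g i)) = ev p u (g i) := by
    intro i
    rw [MvPolynomial.eval_map, ev]
    congr 1
  obtain ⟨i, hi, hne⟩ : ∃ i ∈ I, ev p u (g i) ≠ 0 := by
    by_contra hcon
    push Not at hcon
    apply hu
    rw [hg, map_sum]
    refine Finset.sum_eq_zero fun i hi => ?_
    rw [map_mul, hev, hcon i hi, mul_zero]
  refine ⟨g i, ?_, hne⟩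
  intro S _ _ h hh x
  have h3 := eval_ob (w := w) (D := D) (ZMod.castHom (dvd_refl p) S) hh x (g i)
  rw [h2 i hi, MvPolynomial.eval₂_zero] at h3
  exact (sub_eq_zero.1 h3.symm)

end main

end K672.FpDesc
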