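import Groth.Agent.ShStab.K865.TenAct
import Groth.Agent.GIT.K687.Cartan

/-!
# Block matrices: gluing, inverses, characters, the Cartan decomposition over a discrete valuation ring
-/

set_option autoImplicit false
set_option linter.unusedSectionVars false

universe u v

namespace K672.Blk

open K865.TenAct
open scoped BigOperators

section ring

variable {R B : Type} [Fintype R] [DecidableEq R] [DecidableEq B] {b : R → B}
variable {S : Type v} [CommRing S]

/-- The inverse of an invertible block matrix is a block matrix. -/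
theorem isBlk_inv {z : Matrix R R S} (hz : IsBlk b z) (hu : IsUnit z.det) : IsBlk b z⁻¹ := by
  let y : Matrix R R S := fun i j => if b i = b j then z⁻¹ i j else 0
  have h1 : z * y = 1 := by
    have h2 : z * z⁻¹ = 1 := Matrix.mul_nonsing_inv z hu
    ext i j
    rw [Matrix.mul_apply]
    by_cases hij : b i = b j
    · rw [← h2, Matrix.mul_apply]
      refine Finset.sum_congr rfl fun l _ => ?_
      by_cases hl : b l = b j
      · change z i l * (if b l = b j then z⁻¹ l j else 0) = _
        rw [if_pos hl]
      · rw [hz i l (fun h => hl (h.symm.trans hij)), zero_mul, zero_mul]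
    · rw [Matrix.one_apply_ne (fun h => hij (by rw [h]))]
      refine Finset.sum_eq_zero fun l _ => ?_
      by_cases hl : b l = b j
      · rw [hz i l (fun h => hij (h.trans hl)), zero_mul]
      · change z i l * (if b l = b j then z⁻¹ l j else 0) = _
        rw [if_neg hl, mul_zero]
  have h3 : z⁻¹ = y := Matrix.inv_eq_right_inv h1
  intro i j hij
  rw [h3]
  exact if_neg hij

theorem bdet_mul_of_mul_eq_one {g h : Matrix R R S} (hh : IsBlk b h) (hgh : g * h = 1) (β : B) :
    bdet b g β * bdet b h β = 1 := by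
  rw [← bdet_mul hh, hgh, bdet_one]

theorem chi_mul_of_mul_eq_one (w : B → ℕ) {g h : Matrix R R S} (hh : IsBlk b h) (hgh : g * h = 1) :
    chi b w g * chi b w h = 1 := by
  rw [← chi_mul w hh, hgh, chi_one]

theorem chi_mul_inv (w : B → ℕ) {h : Matrix R R S} (hh : IsBlk b h) (hu : IsUnit h.det) :
    chi b w h * chi b w h⁻¹ = 1 :=
  chi_mul_of_mul_eq_one w (isBlk_inv hh hu) (Matrix.mul_nonsing_inv h hu)

theorem chi_inv_mul (w : B → ℕ) {h : Matrix R R S} (hh : IsBlk b h) (hu : IsUnit h.det) :
    chi b w h⁻¹ * chi b w h = 1 := by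
  rw [mul_comm, chi_mul_inv w hh hu]

theorem isUnit_bdet {h : Matrix R R S} (hh : IsBlk b h) (hu : IsUnit h.det) (β : B) : IsUnit (bdet b h β) :=
  IsUnit.of_mul_eq_one _ (bdet_mul_of_mul_eq_one (isBlk_inv hh hu) (Matrix.mul_nonsing_inv h hu) β)

/-- Gluing square matrices on the blocks. -/
def glue (b : R → B) (M : ∀ β, Matrix {a // b a = β} {a // b a = β} S) : Matrix R R S :=
  fun i j => if h : b j = b i then M (b i) ⟨i, rfl⟩ ⟨j, h⟩ else 0

theorem glue_apply (M : ∀ β, Matrix {a // b a = β} {a // b a = β} S) {i j : R} {β : B} (hi : b i = β)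
    (hj : b j = β) : glue b M i j = M β ⟨i, hi⟩ ⟨j, hj⟩ := by
  subst hi
  exact dif_pos hj

theorem glue_ne (M : ∀ β, Matrix {a // b a = β} {a // b a = β} S) {i j : R} (h : b i ≠ b j) :
    glue b M i j = 0 := dif_neg (fun h' => h h'.symm)

theorem isBlk_glue (M : ∀ β, Matrix {a // b a = β} {a // b a = β} S) : IsBlk b (glue b M) :=
  fun _ _ h => glue_ne M h

theorem glue_mul (M M' : ∀ β, Matrix {a // b a = β} {a // b a = β} S) :
    glue b (fun β => M β * M' β) = glue b M * glue b M' := by
  ext i j
  rw [Matrix.mul_apply]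
  by_cases hij : b i = b j
  · rw [glue_apply _ rfl hij.symm, Matrix.mul_apply,
      ← Finset.sum_subset (Finset.subset_univ (Finset.univ.filter fun l => b l = b i))]
    · rw [Finset.sum_subtype (Finset.univ.filter fun l => b l = b i) (p := fun l => b l = b i) (by simp)]
      refine Finset.sum_congr rfl fun l _ => ?_
      rw [glue_apply M rfl l.2, glue_apply M' l.2 hij.symm]
    · intro l _ hl
      rw [glue_ne M (fun h => hl (by simp [h])), zero_mul]
  · rw [glue_ne _ hij]
    symm
    refine Finset.sum_eq_zero fun l _ => ?_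
    by_cases hl : b i = b l
    · rw [glue_ne M' (fun h => hij (hl.trans h)), mul_zero]
    · rw [glue_ne M hl, zero_mul]

theorem glue_one : glue b (fun _ => (1 : Matrix _ _ S)) = 1 := by
  ext i j
  by_cases hij : b i = b j
  · rw [glue_apply _ rfl hij.symm]
    by_cases h : i = j
    · subst h
      rw [Matrix.one_apply_eq, Matrix.one_apply_eq]
    · rw [Matrix.one_apply_ne h, Matrix.one_apply_ne (fun h' => h (congrArg Subtype.val h'))]
  · rw [glue_ne _ hij, Matrix.one_apply_ne (fun h => hij (by rw [h]))]

theorem glue_diagonal (r : R → S) :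
    glue b (fun β => Matrix.diagonal fun a : {a // b a = β} => r a.1) = Matrix.diagonal r := by
  ext i j
  by_cases hij : b i = b j
  · rw [glue_apply _ rfl hij.symm]
    by_cases h : i = j
    · subst h
      rw [Matrix.diagonal_apply_eq, Matrix.diagonal_apply_eq]
    · rw [Matrix.diagonal_apply_ne _ h, Matrix.diagonal_apply_ne _ (fun h' => h (congrArg Subtype.val h'))]
  · rw [glue_ne _ hij, Matrix.diagonal_apply_ne _ (fun h => hij (by rw [h]))]

theorem glue_toSquareBlock {h : Matrix R R S} (hh : IsBlk b h) : glue b (fun β => h.toSquareBlock b β) = h := by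
  ext i j
  by_cases hij : b i = b j
  · rw [glue_apply _ rfl hij.symm]
    rfl
  · rw [glue_ne _ hij, hh i j hij]

theorem isUnit_det_glue (M : ∀ β, Matrix {a // b a = β} {a // b a = β} S) (hM : ∀ β, IsUnit (M β).det) :
    IsUnit (glue b M).det := by
  have h1 : glue b M * glue b (fun β => (M β)⁻¹) = 1 := by
    rw [← glue_mul, ← glue_one (b := b) (S := S)]
    congr 1
    funext β
    exact Matrix.mul_nonsing_inv _ (hM β)
  exact Matrix.isUnit_det_of_right_inverse h1

theorem glue_map {S' : Type*} [CommRing S'] (f : S →+* S') (M : ∀ β, Matrix {a // b a = β} {a // b a = β} S) :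
    (glue b M).map f = glue b (fun β => (M β).map f) := by
  ext i j
  rw [Matrix.map_apply]
  by_cases hij : b i = b j
  · rw [glue_apply _ rfl hij.symm, glue_apply _ rfl hij.symm, Matrix.map_apply]
  · rw [glue_ne _ hij, glue_ne _ hij, map_zero]

theorem bdet_diagonal (r : R → S) (β : B) :
    bdet b (Matrix.diagonal r) β = ∏ j ∈ Finset.univ.filter (fun j => b j = β), r j := by
  have h1 : (Matrix.diagonal r).toSquareBlock b β = Matrix.diagonal fun a : {a // b a = β} => r a.1 := by
    ext i j
    rw [Matrix.toSquareBlock_def, Matrix.of_apply]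
    by_cases h : i = j
    · subst h
      rw [Matrix.diagonal_apply_eq, Matrix.diagonal_apply_eq]
    · rw [Matrix.diagonal_apply_ne _ h, Matrix.diagonal_apply_ne _ (fun h' => h (Subtype.ext h'))]
  rw [bdet, h1, Matrix.det_diagonal]
  exact (Finset.prod_subtype _ (by simp) _).symm

theorem chi_diagonal (w : B → ℕ) (r : R → S) : chi b w (Matrix.diagonal r) = ∏ j, r j ^ w (b j) := by
  rw [chi]
  have h1 : ∀ β ∈ Finset.univ.image b, bdet b (Matrix.diagonal r) β ^ w β =
      ∏ j ∈ Finset.univ.filter (fun j => b j = β), r j ^ w (b j) := by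
    intro β _
    rw [bdet_diagonal, ← Finset.prod_pow]
    refine Finset.prod_congr rfl fun j hj => ?_
    rw [(Finset.mem_filter.1 hj).2]
  rw [Finset.prod_congr rfl h1]
  exact Finset.prod_fiberwise_of_maps_to (fun j _ => Finset.mem_image_of_mem b (Finset.mem_univ j)) _

end ring

section cartan

variable {R B : Type} [Fintype R] [DecidableEq R] [DecidableEq B] {b : R → B}
variable {O : Type u} [CommRing O] [IsDomain O] [IsDiscreteValuationRing O] {K : Type v} [Field K]
  [Algebra O K] [IsFractionRing O K]

/-- Cartan decomposition for a square matrix with arbitrary index type. -/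
theorem exists_cartan_fintype {n : Type} [Fintype n] [DecidableEq n] (π : O) (hπ : Irreducible π)
    (M : Matrix n n K) (hM : M.det ≠ 0) :
    ∃ (P Q : Matrix n n O) (r : n → ℤ), IsUnit P.det ∧ IsUnit Q.det ∧
      M = P.map (algebraMap O K) * Matrix.diagonal (fun i => (algebraMap O K π) ^ (r i)) *
        Q.map (algebraMap O K) := by
  let e : n ≃ Fin (Fintype.card n) := Fintype.equivFin n
  have h1 : (M.submatrix e.symm e.symm).det ≠ 0 := by
    rwa [Matrix.det_submatrix_equiv_self]
  obtain ⟨P, Q, r, hP, hQ, h⟩ := K687.exists_cartan π hπ _ h1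
  refine ⟨P.submatrix e e, Q.submatrix e e, fun i => r (e i), ?_, ?_, ?_⟩
  · rwa [Matrix.det_submatrix_equiv_self]
  · rwa [Matrix.det_submatrix_equiv_self]
  · have h2 : M = (M.submatrix e.symm e.symm).submatrix e e := by
      ext i j
      simp
    rw [h2, h, ← Matrix.submatrix_mul_equiv _ _ e e e, ← Matrix.submatrix_mul_equiv _ _ e e e]
    congr 1
    congr 1
    ext i j
    simp [Matrix.diagonal_apply]

/-- Cartan decomposition for block matrices. -/
theorem exists_cartan_blk (π : O) (hπ : Irreducible π) (G : Matrix R R K) (hG : IsBlk b G) (hu : IsUnit G.det) :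
    ∃ (P Q : Matrix R R O) (r : R → ℤ), IsBlk b P ∧ IsBlk b Q ∧ IsUnit P.det ∧ IsUnit Q.det ∧
      G = P.map (algebraMap O K) * Matrix.diagonal (fun i => (algebraMap O K π) ^ (r i)) *
        Q.map (algebraMap O K) := by
  have h1 : ∀ β, (G.toSquareBlock b β).det ≠ 0 := fun β => (isUnit_bdet hG hu β).ne_zero
  choose P Q r hP hQ h using fun β => exists_cartan_fintype π hπ (G.toSquareBlock b β) (h1 β)
  refine ⟨glue b P, glue b Q, fun j => r (b j) ⟨j, rfl⟩, isBlk_glue P, isBlk_glue Q, isUnit_det_glue P hP,
    isUnit_det_glue Q hQ, ?_⟩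
  have h2 : ∀ β, (Matrix.diagonal fun i : {a // b a = β} => (algebraMap O K π) ^ (r β i)) =
      Matrix.diagonal fun a : {a // b a = β} => (algebraMap O K π) ^ (r (b a.1) ⟨a.1, rfl⟩) := by
    intro β
    congr 1
    funext a
    obtain ⟨a, rfl⟩ := a
    rfl
  conv_lhs => rw [← glue_toSquareBlock hG]
  rw [← glue_diagonal (b := b), glue_map, glue_map, ← glue_mul, ← glue_mul]
  congr 1
  funext β
  rw [h β, h2 β]

end cartan

end K672.Blk
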