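import Mathlib.FieldTheory.PurelyInseparable.PerfectClosure
import Mathlib.FieldTheory.Normal.Basic
import Mathlib.FieldTheory.IsAlgClosed.AlgebraicClosure
import Mathlib.LinearAlgebra.Matrix.Determinant.Basic
import Mathlib.LinearAlgebra.Matrix.NonsingularInverse

/-!
# Descent of weighted flags along an algebraically closed extension

* `K672.Desc.exists_pow_mem`: elements fixed by all automorphisms of an algebraic closure are radicial;
* `K672.Desc.le_span_fixed`: stable subspaces of coordinate spaces are spanned by their fixed vectors;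
* `K672.Desc.exists_rows`: replacing the rows of an invertible matrix by elements of spanning sets.
-/

set_option autoImplicit false

universe u v w

namespace K672.Desc

section Fixed

variable {K : Type u} [Field K] {Ω : Type v} [Field Ω] [Algebra K Ω] [Algebra.IsAlgebraic K Ω] [IsAlgClosed Ω]

/-- Elements fixed by all automorphisms are radicial. -/
theorem exists_pow_mem (p : ℕ) [ExpChar K p] (x : Ω) (hx : ∀ σ : Ω ≃ₐ[K] Ω, σ x = x) :
    ∃ n : ℕ, x ^ p ^ n ∈ (algebraMap K Ω).range := by
  classical
  have hcl : IsAlgClosure K Ω := ⟨inferInstance, inferInstance⟩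
  have hn : Normal K Ω := IsAlgClosure.normal K Ω
  rw [← mem_perfectClosure_iff_pow_mem (E := Ω), mem_perfectClosure_iff_natSepDegree_eq_one,
    Polynomial.natSepDegree_eq_of_isAlgClosed Ω]
  have hint : IsIntegral K x := Algebra.IsIntegral.isIntegral x
  have h : ((minpoly K x).aroots Ω).toFinset = {x} := by
    ext y
    rw [Multiset.mem_toFinset, Polynomial.mem_aroots, Finset.mem_singleton]
    constructor
    · rintro ⟨-, hy⟩
      have h1 : minpoly K y = minpoly K x :=
        (minpoly.eq_of_irreducible_of_monic (minpoly.irreducible hint) hy (minpoly.monic hint)).symm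
      obtain ⟨σ, hσ⟩ := (Normal.minpoly_eq_iff_mem_orbit (E := Ω)).1 h1
      rw [← hσ]
      exact hx σ
    · rintro rfl
      exact ⟨minpoly.ne_zero hint, minpoly.aeval K y⟩
  rw [h, Finset.card_singleton]

end Fixed

section Sub

variable {Ω : Type v} [Field Ω] {Γ : Type w} [Group Γ] [MulSemiringAction Γ Ω]
variable {ι : Type u} [Finite ι]

/-- A subspace of a coordinate space which is stable under a group of field automorphisms is spanned by the vectors
with fixed coordinates. -/
theorem le_span_fixed (U : Submodule Ω (ι → Ω)) (hU : ∀ (σ : Γ) (v : ι → Ω), v ∈ U → (fun i => σ • v i) ∈ U) :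
    U ≤ Submodule.span Ω {v | v ∈ U ∧ ∀ (σ : Γ) (i : ι), σ • v i = v i} := by
  classical
  have := Fintype.ofFinite ι
  -- a nonzero element of minimal support
  have key : ∀ S : Finset ι, ∀ v ∈ U, (∀ i, v i ≠ 0 → i ∈ S) → v ≠ 0 →
      ∃ u ∈ U, ∃ i₀ ∈ S, u i₀ = 1 ∧ v i₀ ≠ 0 ∧ (∀ i, u i ≠ 0 → v i ≠ 0) ∧ ∀ (σ : Γ) (i : ι), σ • u i = u i := by
    intro S
    induction S using Finset.strongInduction with
    | H S ih =>
      intro v hv hvS hv0
      obtain ⟨i₀, hi₀⟩ : ∃ i, v i ≠ 0 := by
        by_contra hcon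
        push Not at hcon
        exact hv0 (funext hcon)
      set w : ι → Ω := (v i₀)⁻¹ • v with hw
      have hwU : w ∈ U := U.smul_mem _ hv
      have hw1 : w i₀ = 1 := by simp [hw, hi₀]
      have hwv : ∀ i, w i ≠ 0 → v i ≠ 0 := by
        intro i hi h0
        apply hi
        simp [hw, h0]
      by_cases hfix : ∀ (σ : Γ) (i : ι), σ • w i = w i
      · exact ⟨w, hwU, i₀, hvS _ hi₀, hw1, hi₀, hwv, hfix⟩
      · push Not at hfix
        obtain ⟨σ, i, hi⟩ := hfix
        set z : ι → Ω := (fun i => σ • w i) - w with hz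
        have hzU : z ∈ U := U.sub_mem (hU σ w hwU) hwU
        have hz0 : z ≠ 0 := by
          intro h0
          apply hi
          have := congrFun h0 i
          rw [hz, Pi.sub_apply, Pi.zero_apply, sub_eq_zero] at this
          exact this
        have hzi : z i₀ = 0 := by
          rw [hz, Pi.sub_apply, hw1, smul_one, sub_self]
        have hzv : ∀ j, z j ≠ 0 → v j ≠ 0 := by
          intro j hj h0
          apply hj
          rw [hz, Pi.sub_apply]
          have : w j = 0 := by simp [hw, h0]
          rw [this, smul_zero, sub_self]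
        obtain ⟨u, hu, j, hj, hu1, hzj, huz, hufix⟩ := ih (S.erase i₀) (Finset.erase_ssubset (hvS _ hi₀)) z hzU
          (fun j hj => Finset.mem_erase.2 ⟨fun h => hj (by rw [h, hzi]), hvS _ (hzv j hj)⟩) hz0
        exact ⟨u, hu, j, Finset.mem_of_mem_erase hj, hu1, hzv _ hzj, fun i hi => hzv _ (huz i hi), hufix⟩
  have main : ∀ S : Finset ι, ∀ v ∈ U, (∀ i, v i ≠ 0 → i ∈ S) →
      v ∈ Submodule.span Ω {v | v ∈ U ∧ ∀ (σ : Γ) (i : ι), σ • v i = v i} := by
    intro S
    induction S using Finset.strongInduction with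
    | H S ih =>
      intro v hv hvS
      by_cases hv0 : v = 0
      · rw [hv0]; exact Submodule.zero_mem _
      obtain ⟨u, hu, i₀, hi₀, hu1, hvi, huv, hufix⟩ := key S v hv hvS hv0
      have h1 : v - v i₀ • u ∈ Submodule.span Ω {v | v ∈ U ∧ ∀ (σ : Γ) (i : ι), σ • v i = v i} := by
        refine ih (S.erase i₀) (Finset.erase_ssubset hi₀) _ (U.sub_mem hv (U.smul_mem _ hu)) fun j hj => ?_
        refine Finset.mem_erase.2 ⟨fun h => hj ?_, hvS _ fun h0 => hj ?_⟩
        · rw [h, Pi.sub_apply, Pi.smul_apply, hu1, smul_eq_mul, mul_one, sub_self]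
        · have h2 : u j = 0 := by
            by_contra h3
            exact huv j h3 h0
          rw [Pi.sub_apply, Pi.smul_apply, h0, h2, smul_zero, sub_self]
      have h2 : v i₀ • u ∈ Submodule.span Ω {v | v ∈ U ∧ ∀ (σ : Γ) (i : ι), σ • v i = v i} :=
        Submodule.smul_mem _ _ (Submodule.subset_span ⟨hu, hufix⟩)
      have h3 := Submodule.add_mem _ h1 h2
      rwa [sub_add_cancel] at h3
  exact fun v hv => main Finset.univ v hv fun i _ => Finset.mem_univ i

end Sub

section Rows

variable {Ω : Type v} [Field Ω] {ι : Type u} [Fintype ι] [DecidableEq ι]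

/-- The rows of an invertible matrix can be replaced by elements of sets spanning them. -/
theorem exists_rows (g : Matrix ι ι Ω) (hg : g.det ≠ 0) (S : ι → Set (ι → Ω))
    (hS : ∀ i, g i ∈ Submodule.span Ω (S i)) :
    ∃ h : Matrix ι ι Ω, h.det ≠ 0 ∧ ∀ i, h i ∈ S i := by
  classical
  suffices H : ∀ T : Finset ι, ∃ h : Matrix ι ι Ω, h.det ≠ 0 ∧ (∀ i ∈ T, h i ∈ S i) ∧ ∀ i, i ∉ T → h i = g i by
    obtain ⟨h, h1, h2, -⟩ := H Finset.univ
    exact ⟨h, h1, fun i => h2 i (Finset.mem_univ i)⟩
  intro T
  induction T using Finset.induction_on with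
  | empty => exact ⟨g, hg, fun i hi => absurd hi (Finset.notMem_empty i), fun i _ => rfl⟩
  | insert a T ha ih =>
    obtain ⟨h, h1, h2, h3⟩ := ih
    let f : (ι → Ω) →ₗ[Ω] Ω :=
      { toFun := fun r => (h.updateRow a r).det
        map_add' := fun x y => Matrix.det_updateRow_add h a x y
        map_smul' := fun c x => Matrix.det_updateRow_smul h a c x }
    have hf : f (h a) ≠ 0 := by
      change (h.updateRow a (h a)).det ≠ 0
      rwa [Matrix.updateRow_eq_self]
    obtain ⟨r, hr, hfr⟩ : ∃ r ∈ S a, f r ≠ 0 := by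
      by_contra hcon
      push Not at hcon
      apply hf
      have h4 : Submodule.span Ω (S a) ≤ LinearMap.ker f := Submodule.span_le.2 fun r hr => hcon r hr
      have h5 := h4 (hS a)
      rw [h3 a ha]
      exact h5
    refine ⟨h.updateRow a r, hfr, fun i hi => ?_, fun i hi => ?_⟩
    · by_cases hia : i = a
      · subst hia
        rwa [Matrix.updateRow_self]
      · rw [Matrix.updateRow_ne hia]
        exact h2 i (Finset.mem_of_mem_insert_of_ne hi hia)
    · have hia : i ≠ a := fun h => hi (h ▸ Finset.mem_insert_self a T)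
      rw [Matrix.updateRow_ne hia]
      exact h3 i fun h => hi (Finset.mem_insert_of_mem h)

end Rows

end K672.Desc
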