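import Groth.Agent.ShStab.K672.Blk
import Groth.Agent.ShStab.K991.Ten
import Groth.Agent.GIT.K687.Dom

/-!
# The Hilbert-Mumford half of the semi-invariant theorem

`k` algebraically closed, `u` a tensor such that the weights `w` are in `N` times the convex hull of the supports of all
`act h u`, `h` an invertible block matrix.  Then the ideal of the orbit `{(act h u, chi(h)⁻¹)}` in the polynomial ring in
the coordinates of tensors and one more variable `X` is comaximal with `(X)`.
-/

set_option autoImplicit false
set_option linter.unusedSectionVars false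
set_option linter.style.haveILetI false

universe u v

namespace K672.HM

open K865.TenAct K991.Ten K672.Blk IsLocalRing Polynomial
open scoped BigOperators

section pt

variable {k : Type u} [CommRing k] {T : Type} {S : Type v} [CommRing S] [Algebra k S]

/-- The point `(x, z)` of the affine space of dimension `|T| + 1`. -/
noncomputable def pt (x : T → S) (z : S) : (MvPolynomial T k)[X] →ₐ[k] S :=
  Polynomial.eval₂AlgHom (MvPolynomial.aeval x) z (fun _ => Commute.all _ _)

@[simp] theorem pt_C (x : T → S) (z : S) (f : MvPolynomial T k) : pt (k := k) x z (Polynomial.C f) = MvPolynomial.aeval x f :=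
  Polynomial.eval₂_C _ _

@[simp] theorem pt_X (x : T → S) (z : S) : pt (k := k) x z Polynomial.X = z := Polynomial.eval₂_X _ _

theorem pt_CX (x : T → S) (z : S) (t : T) : pt (k := k) x z (Polynomial.C (MvPolynomial.X t)) = x t := by
  rw [pt_C, MvPolynomial.aeval_X]

theorem pt_ext {f g : (MvPolynomial T k)[X] →ₐ[k] S}
    (h : ∀ t, f (Polynomial.C (MvPolynomial.X t)) = g (Polynomial.C (MvPolynomial.X t)))
    (hX : f Polynomial.X = g Polynomial.X) : f = g := by
  refine Polynomial.algHom_ext' (MvPolynomial.algHom_ext fun t => ?_) hX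
  exact h t

theorem comp_pt {S' : Type*} [CommRing S'] [Algebra k S'] (φ : S →ₐ[k] S') (x : T → S) (z : S) :
    φ.comp (pt (k := k) x z) = pt (fun t => φ (x t)) (φ z) := by
  refine pt_ext (fun t => ?_) ?_
  · rw [AlgHom.comp_apply, pt_CX, pt_CX]
  · rw [AlgHom.comp_apply, pt_X, pt_X]

end pt

section generic

variable {R B : Type} [Fintype R] [DecidableEq R] [DecidableEq B] (b : R → B)
variable (k : Type u) [CommRing k]

/-- The generic block matrix. -/
noncomputable def gen : Matrix R R (MvPolynomial (R × R) k) :=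
  fun i j => if b i = b j then MvPolynomial.X (i, j) else 0

theorem isBlk_gen : IsBlk b (gen b k) := fun _ _ h => if_neg h

variable {b k}

theorem gen_map {S : Type v} [CommRing S] [Algebra k S] {h : Matrix R R S} (hh : IsBlk b h) :
    (gen b k).map (MvPolynomial.aeval (fun p : R × R => h p.1 p.2)) = h := by
  ext i j
  rw [Matrix.map_apply, gen]
  by_cases hij : b i = b j
  · rw [if_pos hij, MvPolynomial.aeval_X]
  · rw [if_neg hij, map_zero, hh i j hij]

variable (b k)

/-- The coordinate ring of the group of invertible block matrices. -/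
abbrev Cr : Type u := Localization.Away (gen b k).det

/-- The universal point. -/
noncomputable def univ : Matrix R R (Cr b k) := (gen b k).map (algebraMap (MvPolynomial (R × R) k) (Cr b k))

theorem isBlk_univ : IsBlk b (univ b k) := (isBlk_gen b k).map (algebraMap (MvPolynomial (R × R) k) (Cr b k))

theorem isUnit_det_univ : IsUnit (univ b k).det := by
  have h1 : (univ b k).det = algebraMap (MvPolynomial (R × R) k) (Cr b k) (gen b k).det := by
    rw [univ, RingHom.map_det]
    rfl
  rw [h1]
  exact IsLocalization.Away.algebraMap_isUnit (gen b k).det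

variable {b k}

/-- Points of the coordinate ring. -/
theorem exists_pt {S : Type v} [CommRing S] [Algebra k S] {h : Matrix R R S} (hh : IsBlk b h) (hu : IsUnit h.det) :
    ∃ φ : Cr b k →ₐ[k] S, (univ b k).map φ = h := by
  let ψ : MvPolynomial (R × R) k →ₐ[k] S := MvPolynomial.aeval (fun p : R × R => h p.1 p.2)
  have h1 : ψ (gen b k).det = h.det := by
    have h2 : (gen b k).map ψ = h := gen_map hh
    conv_rhs => rw [← h2]
    exact AlgHom.map_det ψ _
  have h3 : ∀ y : Submonoid.powers (gen b k).det, IsUnit (ψ y) := by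
    rintro ⟨_, n, rfl⟩
    rw [map_pow, h1]
    exact hu.pow n
  refine ⟨IsLocalization.liftAlgHom (M := Submonoid.powers (gen b k).det) (f := ψ) h3, ?_⟩
  ext i j
  rw [Matrix.map_apply, univ, Matrix.map_apply, IsLocalization.liftAlgHom_apply, IsLocalization.lift_eq]
  exact congrFun (congrFun (gen_map hh) i) j

instance finiteType_Cr [Finite R] : Algebra.FiniteType k (Cr b k) :=
  Algebra.FiniteType.trans (S := MvPolynomial (R × R) k) inferInstance
    (IsLocalization.finiteType_of_monoid_fg (Submonoid.powers (gen b k).det) _)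

end generic

section main

variable {R A B : Type} [Fintype R] [DecidableEq R] [Fintype A] [DecidableEq A] [DecidableEq B]
variable {k : Type u} [Field k]

/-- The ideal of the orbit of `(u, 1)`. -/
noncomputable def Iu (b : R → B) (w : B → ℕ) (u : (A → R) → k) : Ideal (MvPolynomial (A → R) k)[X] where
  carrier := {F | ∀ h : Matrix R R k, IsBlk b h → IsUnit h.det → pt (act h u) (chi b w h⁻¹) F = 0}
  add_mem' := by
    intro F G hF hG h hh hu
    rw [map_add, hF h hh hu, hG h hh hu, add_zero]
  zero_mem' := fun h _ _ => map_zero _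
  smul_mem' := by
    intro F G hG h hh hu
    rw [smul_eq_mul, map_mul, hG h hh hu, mul_zero]

theorem mem_Iu {b : R → B} {w : B → ℕ} {u : (A → R) → k} {F : (MvPolynomial (A → R) k)[X]} :
    F ∈ Iu b w u ↔ ∀ h : Matrix R R k, IsBlk b h → IsUnit h.det → pt (act h u) (chi b w h⁻¹) F = 0 := Iff.rfl

variable [IsAlgClosed k]

omit [IsAlgClosed k] in
theorem map_nonsing_inv {S S' : Type*} [CommRing S] [CommRing S'] (f : S →+* S') {M : Matrix R R S}
    (hM : IsUnit M.det) : M⁻¹.map f = (M.map f)⁻¹ := by
  symm
  apply Matrix.inv_eq_left_inv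
  rw [← Matrix.map_mul, Matrix.nonsing_inv_mul M hM, Matrix.map_one _ (map_zero f) (map_one f)]

omit [IsAlgClosed k] in
theorem prod_zpow {ι K : Type*} [Field K] {a : K} (ha : a ≠ 0) (s : Finset ι) (r : ι → ℤ) :
    ∏ i ∈ s, a ^ r i = a ^ ∑ i ∈ s, r i := by
  classical
  induction s using Finset.induction_on with
  | empty => simp
  | insert i s hi ih => rw [Finset.prod_insert hi, Finset.sum_insert hi, zpow_add₀ ha, ih]

/-- Nullstellensatz. -/
theorem exists_algHom_of_ne_top {C : Type v} [CommRing C] [Algebra k C]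
    [Algebra.FiniteType k C] (J : Ideal C) (hJ : J ≠ ⊤) : ∃ a : C →ₐ[k] k, ∀ f ∈ J, a f = 0 := by
  obtain ⟨M, hM, hJM⟩ := Ideal.exists_le_maximal J hJ
  letI : Field (C ⧸ M) := Ideal.Quotient.field M
  haveI : Module.Finite k (C ⧸ M) := by
    haveI : Algebra.FiniteType k (C ⧸ M) := inferInstance
    exact finite_of_finite_type_of_isJacobsonRing k (C ⧸ M)
  haveI : Algebra.IsAlgebraic k (C ⧸ M) := inferInstance
  let e : k ≃ₐ[k] (C ⧸ M) := AlgEquiv.ofBijective (Algebra.ofId k (C ⧸ M))
    (IsAlgClosed.algebraMap_bijective_of_isIntegral)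
  refine ⟨(e.symm : (C ⧸ M) →ₐ[k] k).comp (Ideal.Quotient.mkₐ k M), fun f hf => ?_⟩
  have : Ideal.Quotient.mkₐ k M f = 0 := Ideal.Quotient.eq_zero_iff_mem.mpr (hJM hf)
  rw [AlgHom.comp_apply, this, map_zero]

/-- The orbit map. -/
noncomputable def orbMap (b : R → B) (w : B → ℕ) (u : (A → R) → k) :
    (MvPolynomial (A → R) k)[X] →ₐ[k] Cr b k :=
  pt (act (univ b k) fun J => algebraMap k (Cr b k) (u J)) (chi b w (univ b k)⁻¹)

omit [IsAlgClosed k] in
theorem comp_orbMap (b : R → B) (w : B → ℕ) (u : (A → R) → k) {S : Type v} [CommRing S] [Algebra k S]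
    (ψ : Cr b k →ₐ[k] S) :
    ψ.comp (orbMap b w u) = pt (act ((univ b k).map ψ) fun J => algebraMap k S (u J))
      (chi b w ((univ b k).map ψ)⁻¹) := by
  rw [orbMap, comp_pt]
  congr 1
  · funext J
    have h1 := map_act_apply (ψ : Cr b k →+* S) (univ b k) (fun J => algebraMap k (Cr b k) (u J)) J
    refine h1.trans ?_
    congr 1
    funext J'
    exact ψ.commutes _
  · have h1 := chi_map (ψ : Cr b k →+* S) b w (univ b k)⁻¹
    rw [map_nonsing_inv _ (isUnit_det_univ b k)] at h1
    exact h1.symm

/-- **Hilbert-Mumford.** -/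
theorem hm (b : R → B) (w : B → ℕ) (N : ℕ) (u : (A → R) → k)
    (hK : ∀ h : Matrix R R k, IsBlk b h → IsUnit h.det → InHull N (fun j => w (b j)) (act h u)) :
    Iu b w u ⊔ Ideal.span {(Polynomial.X : (MvPolynomial (A → R) k)[X])} = ⊤ := by
  classical
  by_contra hne
  haveI : Algebra.FiniteType k (MvPolynomial (A → R) k)[X] :=
    Algebra.FiniteType.trans (S := MvPolynomial (A → R) k) inferInstance inferInstance
  obtain ⟨z, hz⟩ := exists_algHom_of_ne_top (k := k) _ hne
  have hzX : z Polynomial.X = 0 := hz _ (Ideal.mem_sup_right (Ideal.subset_span rfl))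
  have hker : RingHom.ker (orbMap b w u) ≤ RingHom.ker z := by
    intro F hF
    refine hz F (Ideal.mem_sup_left ?_)
    intro h hh hu
    obtain ⟨ψ, hψ⟩ := exists_pt (k := k) hh hu
    have h1 := comp_orbMap b w u ψ
    rw [hψ] at h1
    have h2 := congrArg (fun f => f F) h1
    simp only [AlgHom.comp_apply] at h2
    rw [(RingHom.mem_ker).1 hF, map_zero] at h2
    exact h2.symm
  rcases K687.exists_dvr_point (orbMap b w u) z hker with ⟨g, hg⟩ | ⟨O, _, _, _, _, K, _, _, _, _, _, g, h, hgh, hmax⟩
  · have h1 : g (chi b w (univ b k)⁻¹) = 0 := by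
      rw [← hzX, ← hg, AlgHom.comp_apply, orbMap, pt_X]
    have h2 := chi_mul_inv w (isBlk_univ b k) (isUnit_det_univ b k)
    have h3 := congrArg g h2
    rw [map_mul, h1, mul_zero, map_one] at h3
    exact zero_ne_one h3
  · set G : Matrix R R K := (univ b k).map g with hGdef
    have hGb : IsBlk b G := (isBlk_univ b k).map (g : Cr b k →+* K)
    have hGu : IsUnit G.det := by
      have h1 : G.det = g (univ b k).det := (RingHom.map_det (g : Cr b k →+* K) _).symm
      rw [h1]
      exact (isUnit_det_univ b k).map g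
    have hpt := comp_orbMap b w u g
    rw [← hgh, ← hGdef] at hpt
    have hXO : algebraMap O K (h Polynomial.X) = chi b w G⁻¹ := by
      have h1 := congrArg (fun f => f Polynomial.X) hpt
      simpa using h1
    have hJO : ∀ J, algebraMap O K (h (Polynomial.C (MvPolynomial.X J))) =
        act G (fun J => algebraMap k K (u J)) J := by
      intro J
      have h1 := congrArg (fun f => f (Polynomial.C (MvPolynomial.X J))) hpt
      simpa using h1
    have hXm : h Polynomial.X ∈ maximalIdeal O := hmax _ hzX
    obtain ⟨π, hπ⟩ := IsDiscreteValuationRing.exists_irreducible O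
    have hinj : Function.Injective (algebraMap O K) := IsFractionRing.injective O K
    have hπK : algebraMap O K π ≠ 0 := fun h => hπ.ne_zero (hinj (by rw [map_zero]; exact h))
    have hπm : π ∈ maximalIdeal O := (IsDiscreteValuationRing.irreducible_iff_uniformizer π).mp hπ ▸
      Ideal.mem_span_singleton_self π
    obtain ⟨P, Q, r, hP, hQ, hPu, hQu, hPQ⟩ := exists_cartan_blk π hπ G hGb hGu
    -- the tensor `act Q u` over `O`
    let uO : (A → R) → O := fun J => algebraMap k O (u J)
    have huK : (fun J => algebraMap O K (uO J)) = fun J => algebraMap k K (u J) := by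
      funext J
      exact (IsScalarTower.algebraMap_apply k O K (u J)).symm
    have hQK : ∀ J, algebraMap O K (act Q uO J) = act (Q.map (algebraMap O K)) (fun J => algebraMap k K (u J)) J := by
      intro J
      rw [map_act_apply (algebraMap O K), huK]
    have hPinv : P⁻¹.map (algebraMap O K) * P.map (algebraMap O K) = 1 := by
      rw [← Matrix.map_mul, Matrix.nonsing_inv_mul P hPu, Matrix.map_one _ (map_zero _) (map_one _)]
    have hint : ∀ J, ∃ o : O, algebraMap O K o =
        (algebraMap O K π) ^ (∑ a, r (J a)) * algebraMap O K (act Q uO J) := by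
      intro J
      refine ⟨act P⁻¹ (fun J => h (Polynomial.C (MvPolynomial.X J))) J, ?_⟩
      rw [map_act_apply (algebraMap O K)]
      have h1 : (fun J => algebraMap O K (h (Polynomial.C (MvPolynomial.X J)))) =
          act G (fun J => algebraMap k K (u J)) := funext hJO
      rw [h1, ← act_mul, hPQ, Matrix.mul_assoc, ← Matrix.mul_assoc, hPinv, Matrix.one_mul, act_mul, act_diagonal,
        ← hQK, prod_zpow hπK]
    have hneg : ∀ J, ∑ a, r (J a) < 0 → act Q uO J ∈ maximalIdeal O := by
      intro J hJ
      obtain ⟨o, ho⟩ := hint J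
      obtain ⟨n, hn⟩ : ∃ n : ℕ, -(∑ a, r (J a)) = (n : ℤ) + 1 := ⟨(-(∑ a, r (J a)) - 1).toNat, by omega⟩
      have h1 : act Q uO J = π ^ (n + 1) * o := by
        apply hinj
        rw [map_mul, ho, map_pow, ← mul_assoc, ← zpow_natCast, ← zpow_add₀ hπK]
        have h2 : ((n + 1 : ℕ) : ℤ) + ∑ a, r (J a) = 0 := by push_cast; omega
        rw [h2, zpow_zero, one_mul]
      rw [h1]
      exact Ideal.mul_mem_right _ _ (Ideal.pow_mem_of_mem _ hπm _ (Nat.succ_pos n))
    -- the character is negative
    have hs : ∑ j, (w (b j) : ℤ) * r j < 0 := by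
      by_contra hcon
      push Not at hcon
      obtain ⟨n, hn⟩ := Int.eq_ofNat_of_zero_le hcon
      have h1 : chi b w G = algebraMap O K (chi b w P) * (algebraMap O K π) ^ (∑ j, (w (b j) : ℤ) * r j) *
          algebraMap O K (chi b w Q) := by
        rw [hPQ, chi_mul w (hQ.map (algebraMap O K)), chi_mul w ?_, chi_map, chi_map, chi_diagonal]
        · congr 2
          rw [← prod_zpow hπK]
          refine Finset.prod_congr rfl fun j _ => ?_
          rw [mul_comm ((w (b j) : ℤ)), zpow_mul, zpow_natCast]
        · intro i j hij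
          exact Matrix.diagonal_apply_ne _ fun h' => hij (by rw [h'])
      have h2 := chi_mul_inv w hGb hGu
      rw [← hXO, h1, hn] at h2
      have h3 : (1 : O) = chi b w P * π ^ n * chi b w Q * h Polynomial.X := by
        apply hinj
        rw [map_one, ← h2]
        simp only [map_mul, map_pow, zpow_natCast]
      have h4 : (1 : O) ∈ maximalIdeal O := by
        rw [h3]
        exact Ideal.mul_mem_left _ _ hXm
      exact (Ideal.ne_top_iff_one _).mp (maximalIdeal.isMaximal O).ne_top h4
    -- a rational point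
    let I₀ : Ideal (Cr b k) := Ideal.span {x | ∃ J : A → R, ∑ a, r (J a) < 0 ∧
      x = act (univ b k) (fun J => algebraMap k (Cr b k) (u J)) J}
    have hI₀ : I₀ ≠ ⊤ := by
      intro htop
      obtain ⟨ψ, hψ⟩ := exists_pt (k := k) hQ hQu
      have h1 : I₀ ≤ (maximalIdeal O).comap (ψ : Cr b k →+* O) := by
        rw [Ideal.span_le]
        rintro _ ⟨J, hJ, rfl⟩
        change ψ (act (univ b k) (fun J => algebraMap k (Cr b k) (u J)) J) ∈ maximalIdeal O
        have h2 := map_act_apply (ψ : Cr b k →+* O) (univ b k) (fun J => algebraMap k (Cr b k) (u J)) J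
        have h3 : (fun J => (ψ : Cr b k →+* O) (algebraMap k (Cr b k) (u J))) = uO := by
          funext J'
          exact ψ.commutes _
        have h4 : (univ b k).map (ψ : Cr b k →+* O) = Q := hψ
        rw [h3, h4] at h2
        have h5 := hneg J hJ
        rw [← h2] at h5
        exact h5
      rw [htop, top_le_iff] at h1
      have h2 : (1 : Cr b k) ∈ (maximalIdeal O).comap (ψ : Cr b k →+* O) := by rw [h1]; trivial
      rw [Ideal.mem_comap, map_one] at h2
      exact (Ideal.ne_top_iff_one _).mp (maximalIdeal.isMaximal O).ne_top h2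
    obtain ⟨ψ, hψ⟩ := exists_algHom_of_ne_top (k := k) I₀ hI₀
    have hh₀ : IsBlk b ((univ b k).map ψ) := (isBlk_univ b k).map (ψ : Cr b k →+* k)
    have hu₀ : IsUnit ((univ b k).map ψ).det := by
      have h1 : ((univ b k).map ψ).det = ψ (univ b k).det := (RingHom.map_det (ψ : Cr b k →+* k) _).symm
      rw [h1]
      exact (isUnit_det_univ b k).map ψ
    obtain ⟨t, ht0, htu, -, htw⟩ := hK _ hh₀ hu₀
    have hvan : ∀ J, ∑ a, r (J a) < 0 → t J = 0 := by
      intro J hJ
      apply htu
      have h1 := hψ _ (Ideal.subset_span ⟨J, hJ, rfl⟩)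
      have h2 := map_act_apply (ψ : Cr b k →+* k) (univ b k) (fun J => algebraMap k (Cr b k) (u J)) J
      have h3 : (fun J => (ψ : Cr b k →+* k) (algebraMap k (Cr b k) (u J))) = u := by
        funext J'
        exact ψ.commutes _
      rw [h3] at h2
      have h4 : (ψ : Cr b k →+* k) (act (univ b k) (fun J => algebraMap k (Cr b k) (u J)) J) = 0 := h1
      rw [h4] at h2
      exact h2.symm
    have hpos : (0 : ℚ) ≤ ∑ j, (w (b j) : ℚ) * r j := by
      have h1 : ∑ j, (w (b j) : ℚ) * r j = ∑ J, t J * ((∑ a, r (J a) : ℤ) : ℚ) := by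
        have h2 : ∀ j, (w (b j) : ℚ) * r j = ∑ J, t J * ((cnt J j : ℚ) * r j) := by
          intro j
          rw [htw j, Finset.sum_mul]
          exact Finset.sum_congr rfl fun J _ => by ring
        rw [Finset.sum_congr rfl fun j _ => h2 j, Finset.sum_comm]
        refine Finset.sum_congr rfl fun J _ => ?_
        rw [← Finset.mul_sum]
        congr 1
        have h3 := sum_cnt_mul J (fun j => (r j : ℚ))
        push_cast
        rw [← h3]
        exact Finset.sum_congr rfl fun j _ => by rw [nsmul_eq_mul]
      rw [h1]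
      refine Finset.sum_nonneg fun J _ => ?_
      by_cases hJ : ∑ a, r (J a) < 0
      · rw [hvan J hJ, zero_mul]
      · exact mul_nonneg (ht0 J) (by exact_mod_cast not_lt.1 hJ)
    have hs' : (∑ j, (w (b j) : ℚ) * r j) < 0 := by exact_mod_cast hs
    exact absurd hpos (not_le.2 hs')

end main

end K672.HM
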