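import Groth.Agent.ShStab.K991.Ten
import Mathlib.LinearAlgebra.Matrix.Block

/-!
# Parabolic matrices, their Levi parts, and leading parts of tensors

`K672.Lev.lev w z` keeps the entries of `z` between indices of equal weight.  For `z` parabolic and a tensor `t` supported
in weights `≥ c` the leading part of `act z t` is the action of the Levi part on the leading part of `t`.
-/

set_option autoImplicit false
set_option linter.unusedSectionVars false

universe u

namespace K672.Lev

open K865.TenAct K991.Ten
open scoped BigOperators

variable {A R I : Type} [Fintype A] [Fintype R] [DecidableEq R]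
variable {k : Type*} [CommRing k]

/-- The Levi part of a matrix. -/
def lev (w : R → ℕ) (z : Matrix R R k) : Matrix R R k := fun i j => if w i = w j then z i j else 0

theorem lev_mul {w : R → ℕ} {z z' : Matrix R R k} (hz : IsPar w z) (hz' : IsPar w z') :
    lev w (z * z') = lev w z * lev w z' := by
  ext i j
  rw [Matrix.mul_apply]
  by_cases hij : w i = w j
  · rw [lev, if_pos hij, Matrix.mul_apply]
    refine Finset.sum_congr rfl fun l _ => ?_
    by_cases hil : w i = w l
    · rw [lev, lev, if_pos hil, if_pos (hil.symm.trans hij)]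
    · rw [lev, if_neg hil, zero_mul]
      rcases lt_or_gt_of_ne hil with h | h
      · rw [hz i l h, zero_mul]
      · rw [hz' l j (hij ▸ h), mul_zero]
  · rw [lev, if_neg hij]
    symm
    refine Finset.sum_eq_zero fun l _ => ?_
    by_cases hil : w i = w l
    · rw [lev, lev, if_neg (fun h => hij (hil.trans h)), mul_zero]
    · rw [lev, if_neg hil, zero_mul]

theorem lev_one (w : R → ℕ) : lev w (1 : Matrix R R k) = 1 := by
  ext i j
  rw [lev]
  by_cases hij : i = j
  · subst hij
    rw [if_pos rfl]
  · rw [Matrix.one_apply_ne hij, ite_self]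

theorem isBlk_lev {b0 : R → I} {w : R → ℕ} {z : Matrix R R k} (hz : IsBlk b0 z) :
    IsBlk (fun j => (b0 j, w j)) (lev w z) := by
  intro i j hij
  rw [lev]
  split_ifs with h
  · refine hz i j fun h' => hij ?_
    rw [Prod.mk.injEq]
    exact ⟨h', h⟩
  · rfl

/-- The leading part of a transformed tensor. -/
theorem act_par {w : R → ℕ} {z : Matrix R R k} (hz : IsPar w z) {c : ℕ} {t : (A → R) → k}
    (ht : ∀ J, t J ≠ 0 → c ≤ wt w J) :
    (∀ J, act z t J ≠ 0 → c ≤ wt w J) ∧ part w c (act z t) = act (lev w z) (part w c t) := by
  classical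
  -- a nonzero coefficient can only raise weights
  have hle : ∀ J J' : A → R, (∏ a, z (J a) (J' a)) ≠ 0 → ∀ a, w (J' a) ≤ w (J a) := by
    intro J J' h a
    by_contra hlt
    exact h (Finset.prod_eq_zero (Finset.mem_univ a) (hz _ _ (not_le.1 hlt)))
  have hwt : ∀ J J' : A → R, (∀ a, w (J' a) ≤ w (J a)) → wt w J' ≤ wt w J := fun J J' h =>
    Finset.sum_le_sum fun a _ => h a
  constructor
  · intro J hJ
    rw [act_apply] at hJ
    obtain ⟨J', -, hJ'⟩ := Finset.exists_ne_zero_of_sum_ne_zero hJ
    exact (ht J' (right_ne_zero_of_mul hJ')).trans (hwt J J' (hle J J' (left_ne_zero_of_mul hJ')))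
  · funext J
    rw [part, act_apply, act_apply]
    by_cases hJ : wt w J = c
    · rw [if_pos hJ]
      refine Finset.sum_congr rfl fun J' _ => ?_
      by_cases hJ' : wt w J' = c
      · rw [part, if_pos hJ']
        by_cases hall : ∀ a, w (J a) = w (J' a)
        · congr 1
          exact Finset.prod_congr rfl fun a _ => by rw [lev, if_pos (hall a)]
        · push Not at hall
          obtain ⟨a, ha⟩ := hall
          have h1 : (∏ a, lev w z (J a) (J' a)) = 0 :=
            Finset.prod_eq_zero (Finset.mem_univ a) (by rw [lev, if_neg ha])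
          have h2 : (∏ a, z (J a) (J' a)) = 0 := by
            by_contra h
            have h3 := hle J J' h
            have h4 : wt w J' < wt w J :=
              Finset.sum_lt_sum (fun a _ => h3 a) ⟨a, Finset.mem_univ a, lt_of_le_of_ne (h3 a) (Ne.symm ha)⟩
            rw [hJ, hJ'] at h4
            exact lt_irrefl _ h4
          rw [h1, h2]
      · rw [part, if_neg hJ', mul_zero]
        by_contra h
        have h3 := hwt J J' (hle J J' (left_ne_zero_of_mul h))
        have h4 := ht J' (right_ne_zero_of_mul h)
        exact hJ' (le_antisymm (hJ ▸ h3) h4)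
    · rw [if_neg hJ]
      symm
      refine Finset.sum_eq_zero fun J' _ => ?_
      by_cases hJ' : wt w J' = c
      · have : ∃ a, w (J a) ≠ w (J' a) := by
          by_contra hcon
          push Not at hcon
          apply hJ
          rw [← hJ']
          exact Finset.sum_congr rfl fun a _ => hcon a
        obtain ⟨a, ha⟩ := this
        rw [Finset.prod_eq_zero (Finset.mem_univ a) (by rw [lev, if_neg ha]), zero_mul]
      · rw [part, if_neg hJ', mul_zero]

variable {F : Type*} [Field F]

/-- The inverse of a parabolic matrix is parabolic. -/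
theorem isPar_inv {w : R → ℕ} {z : Matrix R R F} (hz : IsPar w z) (hu : IsUnit z.det) : IsPar w z⁻¹ := by
  classical
  have : Invertible z := Matrix.invertibleOfIsUnitDet z hu
  have h1 : Matrix.BlockTriangular z (fun i => OrderDual.toDual (w i)) := fun i j hij => hz i j hij
  have h2 := Matrix.blockTriangular_inv_of_blockTriangular h1
  exact fun i j hij => h2 hij

/-- The Levi part of an invertible parabolic matrix has an inverse which is a Levi part. -/
theorem lev_mul_inv {w : R → ℕ} {z : Matrix R R F} (hz : IsPar w z) (hu : IsUnit z.det) :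
    lev w z * lev w z⁻¹ = 1 := by
  rw [← lev_mul hz (isPar_inv hz hu), Matrix.mul_nonsing_inv z hu, lev_one]

/-- The inverse of an invertible block matrix is a block matrix. -/
theorem isBlk_inv [DecidableEq I] {b0 : R → I} {z : Matrix R R F} (hz : IsBlk b0 z) (hu : IsUnit z.det) :
    IsBlk b0 z⁻¹ := by
  classical
  -- keep only the block entries of the inverse
  let y : Matrix R R F := fun i j => if b0 i = b0 j then z⁻¹ i j else 0
  have h1 : z * y = 1 := by
    have h2 : z * z⁻¹ = 1 := Matrix.mul_nonsing_inv z hu
    ext i j
    rw [Matrix.mul_apply]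
    by_cases hij : b0 i = b0 j
    · rw [← h2, Matrix.mul_apply]
      refine Finset.sum_congr rfl fun l _ => ?_
      by_cases hl : b0 l = b0 j
      · change z i l * (if b0 l = b0 j then z⁻¹ l j else 0) = _
        rw [if_pos hl]
      · rw [hz i l (fun h => hl (h.symm.trans hij)), zero_mul, zero_mul]
    · rw [Matrix.one_apply_ne (fun h => hij (by rw [h]))]
      refine Finset.sum_eq_zero fun l _ => ?_
      by_cases hl : b0 l = b0 j
      · rw [hz i l (fun h => hij (h.trans hl)), zero_mul]
      · change z i l * (if b0 l = b0 j then z⁻¹ l j else 0) = _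
        rw [if_neg hl, mul_zero]
  have h3 : z⁻¹ = y := Matrix.inv_eq_right_inv h1
  intro i j hij
  rw [h3]
  exact if_neg hij

end K672.Lev
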