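import Groth.Agent.ShStab.K672.Desc
import Groth.Agent.ShStab.K672.LevPart

/-!
# The linear algebra output for the tensor product theorem

`K672.LA.stmtLA`: from the optimal weighted flag over algebraically closed fields (`StmtOpt`) and the semi-invariants
(`StmtM1`), the flag is defined over a Frobenius twist of an arbitrary field of characteristic `p`.
-/

set_option autoImplicit false
set_option linter.unusedSectionVars false

universe u

namespace K672.LA

open K865.TenAct K991.Ten K672.Lev K672.Desc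
open scoped BigOperators Matrix

section ev

variable {p : ℕ}

theorem ev_map {k l : Type*} [CommRing k] [CharP k p] [CommRing l] [CharP l p] (φ : k →+* l) {σ : Type*}
    (x : σ → k) (f : MvPolynomial σ (ZMod p)) : ev p (fun i => φ (x i)) f = φ (ev p x f) := by
  rw [ev, ev, MvPolynomial.eval₂_comp_left]
  congr 1
  exact Subsingleton.elim _ _

theorem ev_pow [Fact p.Prime] {k : Type*} [CommRing k] [CharP k p] {σ : Type*} (m : ℕ)
    (x : σ → k) (f : MvPolynomial σ (ZMod p)) : ev p (fun i => x i ^ p ^ m) f = ev p x f ^ p ^ m :=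
  ev_map (iterateFrobenius k p m) x f

end ev

section chi

variable {R I : Type} [Fintype R] [DecidableEq R] [DecidableEq I] {k : Type*} [CommRing k]

/-- Multiplying the weights by a positive integer. -/
theorem chi_scale (b0 : R → I) (w : R → ℕ) {D : ℕ} (hD : 0 < D) (h : Matrix R R k) :
    chi (fun j => (b0 j, D * w j)) Prod.snd h = chi (fun j => (b0 j, w j)) Prod.snd h ^ D := by
  classical
  rw [chi, chi, ← Finset.prod_pow]
  symm
  refine Finset.prod_bij (fun β _ => (β.1, D * β.2)) ?_ ?_ ?_ ?_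
  · intro β hβ
    obtain ⟨j, -, rfl⟩ := Finset.mem_image.1 hβ
    exact Finset.mem_image.2 ⟨j, Finset.mem_univ j, rfl⟩
  · rintro ⟨i, n⟩ - ⟨i', n'⟩ - h
    simp only [Prod.mk.injEq] at h
    rw [Prod.mk.injEq]
    exact ⟨h.1, Nat.eq_of_mul_eq_mul_left hD h.2⟩
  · intro β hβ
    obtain ⟨j, -, rfl⟩ := Finset.mem_image.1 hβ
    exact ⟨(b0 j, w j), Finset.mem_image.2 ⟨j, Finset.mem_univ j, rfl⟩, rfl⟩
  · rintro ⟨i, n⟩ -
    have h1 : ∀ j, (b0 j, w j) = (i, n) ↔ (b0 j, D * w j) = (i, D * n) := by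
      intro j
      rw [Prod.mk.injEq, Prod.mk.injEq]
      exact and_congr_right fun _ => ⟨fun h => by rw [h], fun h => Nat.eq_of_mul_eq_mul_left hD h⟩
    have h2 : bdet (fun j => (b0 j, D * w j)) h (i, D * n) = bdet (fun j => (b0 j, w j)) h (i, n) := by
      rw [bdet, bdet, ← Matrix.det_submatrix_equiv_self (Equiv.subtypeEquivRight h1)]
      rfl
    rw [h2, ← pow_mul, mul_comm n D]

end chi

section count

variable {A R I : Type} [Fintype A] [Fintype R] [DecidableEq R] [DecidableEq I]

theorem sum_cnt_block (b0 : R → I) (J : A → R) (i : I) :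
    ∑ j ∈ Finset.univ.filter (fun j => b0 j = i), cnt J j = (Finset.univ.filter fun a => b0 (J a) = i).card := by
  classical
  have h := sum_cnt_mul J (fun j => if b0 j = i then (1 : ℕ) else 0)
  rw [Finset.card_filter, ← h, Finset.sum_filter]
  exact Finset.sum_congr rfl fun j _ => by split_ifs <;> simp

end count

section main

variable {p : ℕ} [Fact p.Prime]

theorem stmtLA (hO : StmtOpt.{u}) (hM : StmtM1.{u} p) : StmtLA.{u} p := by
  classical
  intro K _ _ R A I _ _ _ _ _ b0 c0 s hs hc0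
  let Ω : Type u := AlgebraicClosure K
  have hchar : CharP Ω p := charP_of_injective_algebraMap (algebraMap K Ω).injective p
  let sΩ : (A → R) → Ω := fun J => algebraMap K Ω (s J)
  have hsΩ : sΩ ≠ 0 := by
    intro h
    apply hs
    funext J
    have := congrFun h J
    exact (algebraMap K Ω).injective (by rw [Pi.zero_apply, map_zero]; exact this)
  obtain ⟨N, w, c, g, hN, hgb, hgu, hsup, hK, huniq⟩ := hO Ω R A I b0 sΩ hsΩ
  have hgg : g * g⁻¹ = 1 := Matrix.mul_nonsing_inv g hgu
  -- the flag of rows is Galois stable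
  have hpar : ∀ σ : Ω ≃ₐ[K] Ω, IsPar w (g.map σ * g⁻¹) := by
    intro σ
    refine huniq _ ?_ ?_ ?_
    · intro i j hij
      rw [Matrix.map_apply, hgb i j hij, map_zero]
    · have h1 : (g.map σ).det = σ g.det := (RingHom.map_det (σ : Ω →+* Ω) g).symm
      rw [h1]
      exact hgu.map σ
    · intro J hJ
      apply hsup J
      intro h0
      apply hJ
      have h1 : (fun J => (σ : Ω →+* Ω) (act g sΩ J)) = act (g.map σ) (fun J => (σ : Ω →+* Ω) (sΩ J)) :=
        map_act (σ : Ω →+* Ω) g sΩ
      have h2 : (fun J => (σ : Ω →+* Ω) (sΩ J)) = sΩ := by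
        funext J
        exact σ.commutes (s J)
      rw [h2] at h1
      rw [← congrFun h1 J, h0, map_zero]
  let U : R → Submodule Ω (R → Ω) := fun i =>
    { carrier := {v | (∀ l, w i < w l → (v ᵥ* g⁻¹) l = 0) ∧ ∀ j, b0 i ≠ b0 j → v j = 0}
      add_mem' := by
        rintro v v' ⟨h1, h2⟩ ⟨h1', h2'⟩
        refine ⟨fun l hl => ?_, fun j hj => ?_⟩
        · rw [Matrix.add_vecMul, Pi.add_apply, h1 l hl, h1' l hl, add_zero]
        · rw [Pi.add_apply, h2 j hj, h2' j hj, add_zero]
      zero_mem' := ⟨fun l _ => by rw [Matrix.zero_vecMul]; rfl, fun j _ => rfl⟩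
      smul_mem' := by
        rintro a v ⟨h1, h2⟩
        refine ⟨fun l hl => ?_, fun j hj => ?_⟩
        · rw [Matrix.smul_vecMul, Pi.smul_apply, h1 l hl, smul_zero]
        · rw [Pi.smul_apply, h2 j hj, smul_zero] }
  have hU : ∀ i (σ : Ω ≃ₐ[K] Ω) (v : R → Ω), v ∈ U i → (fun j => σ • v j) ∈ U i := by
    rintro i σ v ⟨h1, h2⟩
    refine ⟨fun l hl => ?_, fun j hj => ?_⟩
    · have h3 : (fun j => σ • v j) = (fun j => σ ((v ᵥ* g⁻¹) j)) ᵥ* g.map σ := by
        have h4 : v = (v ᵥ* g⁻¹) ᵥ* g := by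
          rw [Matrix.vecMul_vecMul, Matrix.nonsing_inv_mul g hgu, Matrix.vecMul_one]
        funext j
        change σ (v j) = _
        conv_lhs => rw [h4]
        rw [Matrix.vecMul, Matrix.vecMul, dotProduct, dotProduct, map_sum]
        exact Finset.sum_congr rfl fun l _ => by rw [map_mul]; rfl
      rw [h3, Matrix.vecMul_vecMul, Matrix.vecMul, dotProduct]
      refine Finset.sum_eq_zero fun j _ => ?_
      by_cases hj : w i < w j
      · rw [h1 j hj, map_zero, zero_mul]
      · rw [hpar σ j l (lt_of_le_of_lt (not_lt.1 hj) hl), mul_zero]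
    · change σ (v j) = 0
      rw [h2 j hj, map_zero]
  have hgU : ∀ i, g i ∈ U i := by
    intro i
    refine ⟨fun l hl => ?_, fun j hj => hgb i j hj⟩
    have h1 : (g i ᵥ* g⁻¹) l = (g * g⁻¹) i l := rfl
    rw [h1, hgg, Matrix.one_apply_ne]
    rintro rfl
    exact lt_irrefl _ hl
  obtain ⟨g₁, hg₁u, hg₁⟩ := exists_rows g hgu.ne_zero
    (fun i => {v | v ∈ U i ∧ ∀ (σ : Ω ≃ₐ[K] Ω) (j : R), σ • v j = v j})
    (fun i => le_span_fixed (U i) (hU i) (hgU i))
  have hg₁b : IsBlk b0 g₁ := fun i j hij => (hg₁ i).1.2 j hij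
  -- the entries are radicial
  have hrad : ∀ i j, ∃ n : ℕ, g₁ i j ^ p ^ n ∈ (algebraMap K Ω).range := fun i j =>
    exists_pow_mem (K := K) p (g₁ i j) fun σ => (hg₁ i).2 σ j
  choose n hn using hrad
  let m : ℕ := ∑ i, ∑ j, n i j
  have hm : ∀ i j, ∃ y : K, algebraMap K Ω y = g₁ i j ^ p ^ m := by
    intro i j
    have h1 : n i j ≤ m :=
      (Finset.single_le_sum (f := fun j => n i j) (fun _ _ => Nat.zero_le _) (Finset.mem_univ j)).trans
        (Finset.single_le_sum (f := fun i => ∑ j, n i j) (fun _ _ => Nat.zero_le _) (Finset.mem_univ i))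
    obtain ⟨y, hy⟩ := hn i j
    refine ⟨y ^ p ^ (m - n i j), ?_⟩
    rw [map_pow, hy, ← pow_mul, ← pow_add, Nat.add_sub_cancel' h1]
  choose g₂ hg₂ using hm
  let φ : Ω →+* Ω := iterateFrobenius Ω p m
  have hφ : ∀ x : Ω, φ x = x ^ p ^ m := fun x => iterateFrobenius_def p m x
  have hmap : (Matrix.of g₂).map (algebraMap K Ω) = g₁.map φ := by
    ext i j
    rw [Matrix.map_apply, Matrix.map_apply, hφ]
    exact hg₂ i j
  -- the comparison matrix
  set z : Matrix R R Ω := g₁ * g⁻¹ with hz
  have hzpar : IsPar w z := fun i l hil => (hg₁ i).1.1 l hil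
  have hzg : z * g = g₁ := by rw [hz, Matrix.mul_assoc, Matrix.nonsing_inv_mul g hgu, Matrix.mul_one]
  have hzu : IsUnit z.det := by
    rw [hz, Matrix.det_mul]
    exact (isUnit_iff_ne_zero.2 hg₁u).mul ((Matrix.isUnit_nonsing_inv_det_iff).2 hgu)
  have hzb : IsBlk b0 z := hg₁b.mul (isBlk_inv hgb hgu)
  have hact₁ : act g₁ sΩ = act z (act g sΩ) := by rw [← hzg, act_mul]
  obtain ⟨hsup₁, hpart₁⟩ := act_par hzpar hsup
  rw [← hact₁] at hsup₁ hpart₁
  -- the semi-invariant
  obtain ⟨D, f, hD, hf, hfu⟩ := hM Ω R A (I × ℕ) (fun j => (b0 j, w j)) Prod.snd N (part w c (act g sΩ)) hK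
  have hlevb : IsBlk (fun j => (b0 j, w j)) (lev w z) := isBlk_lev hzb
  have hlevb' : IsBlk (fun j => (b0 j, w j)) (lev w z⁻¹) := isBlk_lev (isBlk_inv hzb hzu)
  have hchi : chi (fun j => (b0 j, w j)) Prod.snd (lev w z) ≠ 0 := by
    intro h0
    have h1 := chi_mul (b := fun j => (b0 j, w j)) Prod.snd (g := lev w z) hlevb'
    rw [lev_mul_inv hzpar hzu, chi_one, h0, zero_mul] at h1
    exact one_ne_zero h1
  have hfu₁ : ev p (part w c (act g₁ sΩ)) f ≠ 0 := by
    rw [hpart₁, hf Ω _ hlevb]
    exact mul_ne_zero (pow_ne_zero _ hchi) hfu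
  -- the twisted tensor
  have hact₂ : ∀ J, algebraMap K Ω (act (Matrix.of g₂) (fun J => s J ^ p ^ m) J) = (act g₁ sΩ J) ^ p ^ m := by
    intro J
    rw [map_act_apply (algebraMap K Ω), hmap, ← hφ, map_act_apply φ]
    congr 1
    funext J'
    rw [hφ, map_pow]
  have hpos : 0 < p ^ m := pow_pos (Fact.out : p.Prime).pos m
  refine ⟨m, D * N, fun j => D * w j, D * c, Matrix.of g₂, f, Nat.mul_pos hD hN, ?_, ?_, ?_, ?_, ?_, ?_⟩
  · intro i j hij
    apply (algebraMap K Ω).injective
    rw [map_zero]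
    change algebraMap K Ω (g₂ i j) = 0
    rw [hg₂, hg₁b i j hij, zero_pow hpos.ne']
  · rw [isUnit_iff_ne_zero]
    intro h0
    have h1 : algebraMap K Ω (Matrix.of g₂).det = φ g₁.det := by
      rw [RingHom.map_det, RingHom.map_det]
      congr 1
    rw [h0, map_zero] at h1
    exact hg₁u ((map_eq_zero φ).1 h1.symm)
  · intro J hJ
    have h1 : wt (fun j => D * w j) J = D * wt w J := by rw [wt, wt, Finset.mul_sum]
    rw [h1]
    refine Nat.mul_le_mul_left D (hsup₁ J fun h0 => hJ ?_)
    apply (algebraMap K Ω).injective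
    rw [hact₂, h0, map_zero, zero_pow hpos.ne']
  · intro i
    -- the weights of a block
    have h1 := hK 1 (IsBlk.one _) (by rw [Matrix.det_one]; exact isUnit_one)
    rw [act_one] at h1
    obtain ⟨t, ht0, htu, htN, htw⟩ := h1
    have h2 : ∀ J, t J ≠ 0 → (Finset.univ.filter fun a => b0 (J a) = i) = Finset.univ.filter fun a => c0 a = i := by
      intro J hJ
      have h3 : part w c (act g sΩ) J ≠ 0 := fun h => hJ (htu J h)
      have h4 : act g sΩ J ≠ 0 := by
        intro h
        apply h3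
        rw [part, h, ite_self]
      rw [act_apply] at h4
      obtain ⟨J', -, hJ'⟩ := Finset.exists_ne_zero_of_sum_ne_zero h4
      have h5 : s J' ≠ 0 := by
        intro h
        apply right_ne_zero_of_mul hJ'
        change algebraMap K Ω (s J') = 0
        rw [h, map_zero]
      have h6 : ∀ a, b0 (J a) = c0 a := by
        intro a
        rw [← hc0 J' h5 a]
        by_contra h
        exact left_ne_zero_of_mul hJ' (Finset.prod_eq_zero (Finset.mem_univ a) (hgb _ _ h))
      simp only [h6]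
    have h3 : (∑ j ∈ Finset.univ.filter (fun j => b0 j = i), (w j : ℚ)) =
        N * ((Finset.univ.filter fun a => c0 a = i).card : ℚ) := by
      simp_rw [htw]
      rw [Finset.sum_comm]
      have h4 : ∀ J ∈ (Finset.univ : Finset (A → R)),
          (∑ j ∈ Finset.univ.filter (fun j => b0 j = i), t J * (cnt J j : ℚ)) =
            t J * ((Finset.univ.filter fun a => c0 a = i).card : ℚ) := by
        intro J _
        by_cases hJ : t J = 0
        · simp [hJ]
        · rw [← Finset.mul_sum, ← h2 J hJ, ← sum_cnt_block b0 J i]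
          push_cast
          rfl
      rw [Finset.sum_congr rfl h4, ← Finset.sum_mul, htN]
    have h4 : (∑ j ∈ Finset.univ.filter (fun j => b0 j = i), w j) =
        N * (Finset.univ.filter fun a => c0 a = i).card := by
      exact_mod_cast h3
    rw [← Finset.mul_sum, h4, mul_assoc]
  · intro S _ _ h hh x
    have h1 : IsBlk (fun j => (b0 j, w j)) h := by
      intro i j hij
      apply hh i j
      intro h2
      apply hij
      rw [Prod.mk.injEq] at h2 ⊢
      exact ⟨h2.1, Nat.eq_of_mul_eq_mul_left hD h2.2⟩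
    rw [hf S h h1 x, chi_scale b0 w hD]
  · have h1 : ∀ J, algebraMap K Ω (part (fun j => D * w j) (D * c)
        (act (Matrix.of g₂) (fun J => s J ^ p ^ m)) J) = (part w c (act g₁ sΩ) J) ^ p ^ m := by
      intro J
      have h2 : wt (fun j => D * w j) J = D * wt w J := by rw [wt, wt, Finset.mul_sum]
      have h3 : wt (fun j => D * w j) J = D * c ↔ wt w J = c := by
        rw [h2]
        exact ⟨fun h => Nat.eq_of_mul_eq_mul_left hD h, fun h => by rw [h]⟩
      rw [part, part]
      by_cases hJ : wt w J = c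
      · rw [if_pos hJ, if_pos (h3.2 hJ), hact₂]
      · rw [if_neg hJ, if_neg (fun h => hJ (h3.1 h)), map_zero, zero_pow hpos.ne']
    intro h0
    have h2 := ev_map (p := p) (algebraMap K Ω)
      (part (fun j => D * w j) (D * c) (act (Matrix.of g₂) (fun J => s J ^ p ^ m))) f
    rw [h0, map_zero] at h2
    have h3 : (fun J => algebraMap K Ω (part (fun j => D * w j) (D * c)
        (act (Matrix.of g₂) (fun J => s J ^ p ^ m)) J)) = fun J => (part w c (act g₁ sΩ) J) ^ p ^ m :=
      funext h1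
    rw [h3, ev_pow] at h2
    exact hfu₁ (pow_eq_zero_iff hpos.ne' |>.1 h2)

end main

end K672.LA
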